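import Cfsg.Agent.H178.RG.Defs

/-!
# S5714, TEAM RG: cyclic submodules and Witt's theorem (helper481)

`wittP_of` : Witt's theorem for finite linearly independent families gives `WittP`.
-/

set_option autoImplicit false

namespace Cfsg.Agent.H481.RG

open Cfsg Cfsg.Agent.H178.RG
open Polynomial

variable {F ι : Type} [Field F] [Fintype ι] [DecidableEq ι]

theorem aeval_mulVec (x : Matrix ι ι F) (v : ι → F) (g : F[X]) (d : ℕ) (hd : g.natDegree < d) :
    (aeval x g).mulVec v = ∑ i : Fin d, g.coeff i • (x ^ (i : ℕ)).mulVec v := by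
  rw [Polynomial.aeval_eq_sum_range' hd, Matrix.sum_mulVec, Finset.sum_range]
  exact Finset.sum_congr rfl fun i _ => by rw [Matrix.smul_mulVec]

theorem ann_ne_zero {x : Matrix ι ι F} {v : ι → F} {f : F[X]} (h : Ann x v f) : f ≠ 0 := by
  intro h0
  have h1 : f ∣ x.charpoly := (h _).1 (by rw [Matrix.aeval_self_charpoly, Matrix.zero_mulVec])
  rw [h0, zero_dvd_iff] at h1
  exact (Matrix.charpoly_monic x).ne_zero h1

/-- the vectors `x ^ i v`, `i < deg f`, are linearly independent -/
theorem ann_li {x : Matrix ι ι F} {v : ι → F} {f : F[X]} (h : Ann x v f) :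
    LinearIndependent F (fun i : Fin f.natDegree => (x ^ (i : ℕ)).mulVec v) := by
  rw [Fintype.linearIndependent_iff]
  intro c hc
  by_cases hd : f.natDegree = 0
  · intro i
    exact absurd i.2 (by omega)
  set g : F[X] := ∑ i : Fin f.natDegree, C (c i) * X ^ (i : ℕ) with hg
  have hcoeff : ∀ j : Fin f.natDegree, g.coeff j = c j := by
    intro j
    rw [hg, finsetSum_coeff]
    simp only [coeff_C_mul, coeff_X_pow, mul_ite, mul_one, mul_zero]
    rw [Finset.sum_eq_single j]
    · rw [if_pos rfl]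
    · intro i _ hij
      rw [if_neg]
      intro h1
      exact hij (Fin.ext h1.symm)
    · intro h1
      exact absurd (Finset.mem_univ j) h1
  have hdeg : g.natDegree < f.natDegree := by
    have h1 : g.natDegree ≤ f.natDegree - 1 := by
      rw [hg]
      refine natDegree_sum_le_of_forall_le _ _ fun i _ => ?_
      refine (natDegree_C_mul_X_pow_le _ _).trans ?_
      omega
    omega
  have h1 : (aeval x g).mulVec v = 0 := by
    rw [aeval_mulVec x v g _ hdeg, ← hc]
    exact Finset.sum_congr rfl fun i _ => by rw [hcoeff]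
  have h2 : g = 0 := by
    by_contra hne
    have h3 := natDegree_le_of_dvd ((h g).1 h1) hne
    omega
  intro i
  rw [← hcoeff, h2, coeff_zero]

/-- `x ^ n v` as a linear combination -/
theorem ann_pow_eq {x : Matrix ι ι F} {v : ι → F} {f : F[X]} (h : Ann x v f) (n : ℕ) :
    (x ^ n).mulVec v = ∑ i : Fin f.natDegree, (X ^ n % f : F[X]).coeff i • (x ^ (i : ℕ)).mulVec v := by
  have hf := ann_ne_zero h
  have h1 : (aeval x (X ^ n : F[X])).mulVec v = (aeval x (X ^ n % f : F[X])).mulVec v := by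
    have h2 : (aeval x (X ^ n - X ^ n % f : F[X])).mulVec v = 0 := by
      rw [h]
      have h3 := EuclideanDomain.div_add_mod (X ^ n : F[X]) f
      exact ⟨X ^ n / f, by linear_combination -h3⟩
    rw [map_sub, Matrix.sub_mulVec, sub_eq_zero] at h2
    exact h2
  rw [map_pow, aeval_X] at h1
  by_cases hd : f.natDegree = 0
  · have h2 : (X ^ n % f : F[X]) = 0 := by
      rw [EuclideanDomain.mod_eq_zero]
      have h3 : IsUnit f := by
        rw [Polynomial.isUnit_iff_degree_eq_zero, degree_eq_natDegree hf, hd]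
        rfl
      exact h3.dvd
    rw [h1, h2]
    simp
  · rw [h1, aeval_mulVec x v _ f.natDegree]
    have h3 := natDegree_mod_lt (X ^ n : F[X]) hd
    exact h3

variable {G : Type} [Group G]

/-- **Witt's theorem for families gives `WittP`** -/
theorem wittP_of (ρ : G →* Matrix ι ι F) (B : (ι → F) → (ι → F) → F) (Q : (ι → F) → F)
    (hB : ∀ g v w, B ((ρ g).mulVec v) ((ρ g).mulVec w) = B v w) (hQ : ∀ g v, Q ((ρ g).mulVec v) = Q v)
    (hext : ∀ (d : ℕ) (w w' : Fin d → ι → F), LinearIndependent F w → LinearIndependent F w' →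
      (∀ i j, B (w i) (w j) = B (w' i) (w' j)) → (∀ i, Q (w i) = Q (w' i)) →
      ∃ g : G, ∀ i, (ρ g).mulVec (w i) = w' i) : WittP ρ B Q := by
  intro f x x' v v' h h' hQv hBv
  have key : ∀ (y : G) (u : ι → F) (i k : ℕ), B ((ρ y ^ i).mulVec u) ((ρ y ^ k).mulVec u) =
      B ((ρ (y ^ ((i : ℤ) - k))).mulVec u) u := by
    intro y u i k
    rw [← map_pow, ← map_pow, ← hB (y ^ k) ((ρ (y ^ ((i : ℤ) - k))).mulVec u) u, Matrix.mulVec_mulVec, ← map_mul]
    congr 3
    rw [← zpow_natCast, ← zpow_natCast, ← zpow_add]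
    congr 1
    omega
  obtain ⟨g, hg⟩ := hext f.natDegree _ _ (ann_li h) (ann_li h') (by
    intro i j
    show B ((ρ x ^ (i : ℕ)).mulVec v) ((ρ x ^ (j : ℕ)).mulVec v) =
      B ((ρ x' ^ (i : ℕ)).mulVec v') ((ρ x' ^ (j : ℕ)).mulVec v')
    rw [key, key, hBv]) (by
    intro i
    show Q ((ρ x ^ (i : ℕ)).mulVec v) = Q ((ρ x' ^ (i : ℕ)).mulVec v')
    rw [← map_pow, ← map_pow, hQ, hQ, hQv])
  refine ⟨g, fun n => ?_⟩
  rw [map_pow, map_pow, ann_pow_eq h n, ann_pow_eq h' n, Matrix.mulVec_sum]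
  refine Finset.sum_congr rfl fun i _ => ?_
  rw [Matrix.mulVec_smul]
  congr 1
  exact hg i

end Cfsg.Agent.H481.RG
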